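import Cfsg.Agent.KFacts.LargeE
import Cfsg.Agent.KFacts.LargeAut
import Cfsg.Agent.BabyU.RootCfg
import Cfsg.Agent.S0283
import Cfsg.Agent.S0815
import Cfsg.Agent.ClassicalGeometry.PSUAutSylow
import Cfsg.Agent.TwoESix.SheetA
import Cfsg.Agent.TwoESix.LeviG
import Cfsg.Agent.TwoESix.ExtTwisted
import Cfsg.Agent.KFacts.SheetOf
import Cfsg.Agent.LieClassical.Order72

-- merged: Cfsg.Agent.TwoESix.SheetB
section

/-!
# Large extraspecial subgroups and automorphisms of `C(z)`

`mem_conj_of`: cosets `aQ`; `Theta`: automorphisms of the quotient; `comap_inner`, `conj_all`: the `y`-trick from the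
order of the outer automorphism group of the quotient.
-/

set_option autoImplicit false

namespace Cfsg.Agent.TwoESix.SheetB

open Cfsg.Agent.Co2Type.Quad Cfsg.Agent.KFacts.LargeO2

/-! ### Cosets of `Q` -/

section Coset

variable {G : Type*} [Group G] {Q : Subgroup G} {z : G}

/-- An element `u` of `a Q` is conjugate under `Q` to `a` or to `a z`, if `a`, `u` are not conjugate under `Q` to `a z`,
`u z`. -/
theorem mem_conj_of [Finite G] (h : Large Q z) {a u : G} (ha : a * z = z * a)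
    (haz : ∀ x ∈ Q, x * a * x⁻¹ ≠ a * z) (huz : ∀ x ∈ Q, x * u * x⁻¹ ≠ u * z) (hu : u * a⁻¹ ∈ Q) :
    ∃ x ∈ Q, u = x * a * x⁻¹ ∨ u = x * a * x⁻¹ * z := by
  classical
  set g : Subgroup.centralizer ({z} : Set G) := ⟨a, Subgroup.mem_centralizer_singleton_iff.2 ha⟩ with hg
  let T : h.V →ₗ[ZMod 2] h.V := LinearMap.id + (h.act g : h.V ≃ₗ[ZMod 2] h.V).toLinearMap
  have hT : ∀ v, T v = v + h.act g v := fun v => rfl
  have haz' : a * z * a⁻¹ = z := by rw [ha, mul_inv_cancel_right]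
  by_cases hq : h.pr ⟨u * a⁻¹, hu⟩ ∈ LinearMap.range T
  · obtain ⟨v, hv⟩ := hq
    obtain ⟨x, rfl⟩ := h.pr_surjective v
    rw [hT, h.act_pr] at hv
    have e1 : h.pr (x * (h.conjQ g x)⁻¹) = h.pr ⟨u * a⁻¹, hu⟩ := by
      rw [h.pr_mul, h.pr_inv, h.neg_eq]; exact hv
    refine ⟨x, x.2, ?_⟩
    rcases h.pr_eq_pr.1 e1 with h1 | h1
    · left
      have h2 : (x : G) * (a * x * a⁻¹)⁻¹ = u * a⁻¹ := h1
      calc u = u * a⁻¹ * a := by group
        _ = (x : G) * (a * x * a⁻¹)⁻¹ * a := by rw [h2]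
        _ = x * a * (x : G)⁻¹ := by group
    · right
      have h2 : (x : G) * (a * x * a⁻¹)⁻¹ = u * a⁻¹ * z := h1
      have h3 : u * a⁻¹ = (x : G) * (a * x * a⁻¹)⁻¹ * z := by
        rw [h2, mul_assoc _ z z, h.z_sq, mul_one]
      calc u = u * a⁻¹ * a := by group
        _ = (x : G) * (a * x * a⁻¹)⁻¹ * z * a := by rw [h3]
        _ = (x : G) * (a * x * a⁻¹)⁻¹ * (z * a) := by group
        _ = (x : G) * (a * x * a⁻¹)⁻¹ * (a * z) := by rw [ha]
        _ = x * a * (x : G)⁻¹ * z := by group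
  · exfalso
    obtain ⟨f, hf1, hf2⟩ := Submodule.exists_le_ker_of_notMem hq
    obtain ⟨v, hv⟩ := h.exists_b_eq f
    have h1 : ∀ w, h.b v w = h.b v (h.act g w) := by
      intro w
      have h2 : f (T w) = 0 := hf2 ⟨w, rfl⟩
      rw [← hv, hT, map_add] at h2
      generalize h.b v w = c at h2 ⊢
      generalize h.b v (h.act g w) = d at h2 ⊢
      revert c d
      decide
    have h2 : h.act g v + v = 0 := by
      apply h.b_nondeg
      intro w
      obtain ⟨w', rfl⟩ := (h.act g).surjective w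
      rw [map_add, LinearMap.add_apply, h.b_act, ← h1]
      generalize h.b v w' = c
      revert c
      decide
    have h3 : h.act g v = v := by
      have := congrArg (· + v) h2
      simp only [add_assoc, h.add_self, add_zero, zero_add] at this
      exact this
    obtain ⟨x, rfl⟩ := h.pr_surjective v
    have h4 : a * (x : G) = x * a := by
      rw [h.act_pr] at h3
      rcases h.pr_eq_pr.1 h3 with h5 | h5
      · have h6 : a * x * a⁻¹ = (x : G) := h5
        exact mul_inv_eq_iff_eq_mul.1 h6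
      · exfalso
        have h6 : a * x * a⁻¹ = (x : G) * z := h5
        apply haz (x : G)⁻¹ (Q.inv_mem x.2)
        rw [inv_inv]
        calc (x : G)⁻¹ * a * x = (x : G)⁻¹ * (a * x * a⁻¹) * a := by group
          _ = (x : G)⁻¹ * (x * z) * a := by rw [h6]
          _ = z * a := by group
          _ = a * z := ha.symm
    have h5 : h.b (h.pr x) (h.pr ⟨u * a⁻¹, hu⟩) = 1 := by
      rw [hv]
      revert hf1
      generalize f (h.pr ⟨u * a⁻¹, hu⟩) = c
      revert c
      decide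
    have h6 : (x : G) * (u * a⁻¹) = u * a⁻¹ * x * z := (h.b_pr_one x ⟨u * a⁻¹, hu⟩).1 h5
    apply huz x x.2
    have hxz : (x : G) * z = z * x := h.comm_z x x.2
    calc (x : G) * u * (x : G)⁻¹ = x * (u * a⁻¹) * a * (x : G)⁻¹ := by group
      _ = u * a⁻¹ * x * z * a * (x : G)⁻¹ := by rw [h6]
      _ = u * a⁻¹ * x * (z * a) * (x : G)⁻¹ := by group
      _ = u * a⁻¹ * x * (a * z) * (x : G)⁻¹ := by rw [ha]
      _ = u * a⁻¹ * (x * a) * z * (x : G)⁻¹ := by group
      _ = u * a⁻¹ * (a * x) * z * (x : G)⁻¹ := by rw [h4]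
      _ = u * (x * z) * (x : G)⁻¹ := by group
      _ = u * (z * x) * (x : G)⁻¹ := by rw [hxz]
      _ = u * z := by group

end Coset

/-! ### Automorphisms of a quotient -/

section Theta

variable {P L : Type*} [Group P] [Group L]

/-- The automorphism of `L` induced by an automorphism of `P`. -/
theorem exists_theta (ψ : P →* L) (hψ : Function.Surjective ψ)
    (hch : ∀ (β : MulAut P) (x : P), ψ x = 1 → ψ (β x) = 1) :
    ∃ Θ : MulAut P →* MulAut L, ∀ β x, Θ β (ψ x) = ψ (β x) := by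
  have key : ∀ (β : MulAut P) (x y : P), ψ x = ψ y → ψ (β x) = ψ (β y) := by
    intro β x y hxy
    have h1 := hch β (x * y⁻¹) (by rw [map_mul, map_inv, hxy, mul_inv_cancel])
    rw [map_mul, map_mul, map_inv, map_inv] at h1
    exact mul_inv_eq_one.1 h1
  let f : MulAut P → (L →* L) := fun β =>
    { toFun := fun l => ψ (β (Function.surjInv hψ l))
      map_one' := hch β _ (Function.surjInv_eq hψ 1)
      map_mul' := fun a b => by
        rw [← map_mul, ← map_mul]
        apply key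
        rw [map_mul, Function.surjInv_eq hψ, Function.surjInv_eq hψ, Function.surjInv_eq hψ] }
  have hf : ∀ β x, f β (ψ x) = ψ (β x) := fun β x => key β _ _ (Function.surjInv_eq hψ _)
  have hinv : ∀ β γ : MulAut P, (∀ x, β (γ x) = x) → ∀ l, f β (f γ l) = l := by
    intro β γ hβγ l
    obtain ⟨x, rfl⟩ := hψ l
    rw [hf, hf, hβγ]
  let g : MulAut P → MulAut L := fun β =>
    { toFun := f β
      invFun := f β⁻¹
      left_inv := hinv β⁻¹ β (fun x => MulAut.inv_apply_self P β x)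
      right_inv := hinv β β⁻¹ (fun x => MulAut.apply_inv_self P β x)
      map_mul' := (f β).map_mul }
  have hg : ∀ β x, g β (ψ x) = ψ (β x) := hf
  refine ⟨MonoidHom.mk' g ?_, hg⟩
  intro β γ
  ext l
  obtain ⟨x, rfl⟩ := hψ l
  rw [MulAut.mul_apply, hg, hg, hg, MulAut.mul_apply]

/-- Induced automorphisms and conjugations. -/
theorem theta_conj {ψ : P →* L} (hψ : Function.Surjective ψ) {Θ : MulAut P →* MulAut L}
    (hΘ : ∀ β x, Θ β (ψ x) = ψ (β x)) (p : P) : Θ (MulAut.conj p) = MulAut.conj (ψ p) := by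
  ext l
  obtain ⟨x, rfl⟩ := hψ l
  rw [hΘ, MulAut.conj_apply, MulAut.conj_apply, map_mul, map_mul, map_inv]

/-- `Inn(L)` has index `n`, its preimage in `Aut(P)` has index dividing `n`. -/
theorem index_comap_dvd {A B : Type*} [Group A] [Group B] (f : A →* B) (I : Subgroup B) [I.Normal] :
    (I.comap f).index ∣ I.index := by
  rw [Subgroup.index_comap]
  exact Subgroup.relIndex_dvd_index_of_normal I f.range

variable {Q : Subgroup P} {z : P}

/-- **Automorphisms of `P` inducing inner automorphisms of `P / Q` are inner.** -/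
theorem comap_inner [Finite P] (h : Large Q z) (hirr : Irr Q z) (hzc : ∀ x : P, x * z = z * x)
    (hf : ∀ f : P →* ℤˣ, ∀ u, f u = 1) {v : P} (hv : v ∈ Q) (hv1 : v ≠ 1) (hvz : v ≠ z) {D : Set P}
    (hfix : ∀ x ∈ Q, (∀ d ∈ D, d * x * d⁻¹ = x ∨ d * x * d⁻¹ = x * z) →
      x = 1 ∨ x = z ∨ x = v ∨ x = v * z)
    (hvD : ∀ d ∈ D, d * v * d⁻¹ = v ∨ d * v * d⁻¹ = v * z)
    {ψ : P →* L} (hψ : Function.Surjective ψ) (hker : ∀ x, ψ x = 1 ↔ x ∈ Q) {Θ : MulAut P →* MulAut L}
    (hΘ : ∀ β x, Θ β (ψ x) = ψ (β x)) :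
    (MulAut.conj : L →* MulAut L).range.comap Θ = (MulAut.conj : P →* MulAut P).range := by
  apply le_antisymm
  · rintro β ⟨l, hl⟩
    obtain ⟨p, rfl⟩ := hψ l
    set α : MulAut P := (MulAut.conj p)⁻¹ * β with hα
    have hβ : β = MulAut.conj p * α := by rw [hα, mul_inv_cancel_left]
    have h1 : ∀ x, ψ (α x) = ψ x := by
      intro x
      rw [← hΘ, hα, map_mul, map_inv, theta_conj hψ hΘ, hl, inv_mul_cancel, MulAut.one_apply]
    have hz : α z = z := by
      have h2 : ∀ x, α z * x = x * α z := by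
        intro x
        obtain ⟨y, rfl⟩ := α.surjective x
        rw [← map_mul, ← map_mul, hzc]
      rcases KFacts.LargeE.cent_eq h (h2 z) (fun x _ => h2 x) with h3 | h3
      · exfalso
        exact h.z_ne (α.injective (h3.trans (map_one α).symm))
      · exact h3
    obtain ⟨y, -, hy⟩ := KFacts.LargeAut.exists_conj h hirr
      (fun f u => by
        let f' : P →* ℤˣ := f.comp
          { toFun := fun x => ⟨x, Subgroup.mem_centralizer_singleton_iff.2 (hzc x)⟩
            map_one' := rfl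
            map_mul' := fun _ _ => rfl }
        exact hf f' u)
      (fun γ hγ => Or.inl (MulEquiv.ext fun x => hγ x (hzc x))) hv hv1 hvz (D := D) (fun d _ => hzc d) hfix hvD
      (α := α) hz (fun u _ => by
        rw [← hker, map_mul, map_inv, h1, mul_inv_cancel])
    exact ⟨p * y, by rw [map_mul, ← hy, hβ]⟩
  · rintro _ ⟨p, rfl⟩
    exact ⟨ψ p, (theta_conj hψ hΘ p).symm⟩

theorem conj_normal (A : Type*) [Group A] : ((MulAut.conj : A →* MulAut A).range).Normal where
  conj_mem := by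
    rintro _ ⟨p, rfl⟩ γ
    refine ⟨γ p, ?_⟩
    ext x
    rw [MulAut.mul_apply, MulAut.mul_apply, MulAut.conj_apply, MulAut.conj_apply, map_mul, map_mul, map_inv,
      MulAut.apply_inv_self]

/-- A subgroup of index dividing six, and a subgroup of index at most two containing it. -/
theorem eq_top_of_index {A : Type*} [Group A] [Finite A] (I H : Subgroup A) [I.Normal] (hI : I.index ∣ 6) (hIH : I ≤ H)
    (hH : ∀ a b, a ∉ H → b ∉ H → a * b ∈ H) {f : A} (hf : f ∈ H) (hfI : f ∉ I) (hf2 : f * f ∈ I) : H = ⊤ := by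
  by_contra hne
  obtain ⟨a, ha⟩ : ∃ a, a ∉ H := by
    by_contra hcon
    push Not at hcon
    exact hne (eq_top_iff.2 fun x _ => hcon x)
  have h2 : H.index = 2 := by
    rw [Subgroup.index_eq_two_iff]
    refine ⟨a, fun b => ?_⟩
    by_cases hb : b ∈ H
    · refine Or.inr ⟨hb, fun h => ha ?_⟩
      have := H.mul_mem (H.inv_mem hb) h
      rwa [inv_mul_cancel_left] at this
    · exact Or.inl ⟨hH b a hb ha, hb⟩
  have h3 : 2 ∣ I.relIndex H := by
    have hn : (I.subgroupOf H).Normal := inferInstance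
    set f' : H ⧸ I.subgroupOf H := QuotientGroup.mk ⟨f, hf⟩ with hf'
    have h4 : orderOf f' = 2 := by
      apply orderOf_eq_prime
      · rw [pow_two, hf', ← QuotientGroup.mk_mul, QuotientGroup.eq_one_iff]
        exact hf2
      · rw [hf', Ne, QuotientGroup.eq_one_iff]
        exact hfI
    have h5 := orderOf_dvd_natCard f'
    rw [h4] at h5
    exact h5
  have h4 := Subgroup.relIndex_mul_index hIH
  rw [h2] at h4
  have h5 : 4 ∣ I.index := by
    rw [← h4]
    obtain ⟨c, hc⟩ := h3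
    exact ⟨c, by rw [hc]; ring⟩
  have h6 := h5.trans hI
  omega

/-- **The `y`-trick**: all automorphisms of `P` map `a` to a conjugate. -/
theorem conj_all [Finite P] (h : Large Q z) (hzc : ∀ x : P, x * z = z * x)
    {ψ : P →* L} (hker : ∀ x, ψ x = 1 ↔ x ∈ Q) {Θ : MulAut P →* MulAut L} (hψ : Function.Surjective ψ)
    (hΘ : ∀ β x, Θ β (ψ x) = ψ (β x)) (hI : (MulAut.conj : P →* MulAut P).range.index ∣ 6)
    {a : P} (hTT : ∀ γ : MulAut L, ∃ l, γ (ψ a) = l * ψ a * l⁻¹) (haz : ∀ x, x * a * x⁻¹ ≠ a * z)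
    {φ : MulAut P} (hφ : φ a = a) (hφ2 : φ * φ = 1) (hφn : ∀ p, φ ≠ MulAut.conj p) (β : MulAut P) :
    ∃ p, β a = p * a * p⁻¹ := by
  have hz : ∀ β : MulAut P, β z = z := by
    intro β
    have h2 : ∀ x, β z * x = x * β z := by
      intro x
      obtain ⟨y, rfl⟩ := β.surjective x
      rw [← map_mul, ← map_mul, hzc]
    rcases KFacts.LargeE.cent_eq h (h2 z) (fun x _ => h2 x) with h3 | h3
    · exfalso
      exact h.z_ne (β.injective (h3.trans (map_one β).symm))
    · exact h3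
  have hQ : ∀ β : MulAut P, ∀ x, x ∈ Q → β x ∈ Q := by
    intro β x hx
    rw [← hker, ← hΘ, (hker x).2 hx, map_one]
  -- every automorphism maps `a` to a conjugate of `a` or `a z`
  have key : ∀ β : MulAut P, ∃ p, β a = p * a * p⁻¹ ∨ β a = p * a * p⁻¹ * z := by
    intro β
    obtain ⟨l, hl⟩ := hTT (Θ β)
    obtain ⟨p, rfl⟩ := hψ l
    set α : MulAut P := (MulAut.conj p)⁻¹ * β with hα
    have hβ : ∀ x, β x = p * α x * p⁻¹ := by
      intro x
      rw [hα, MulAut.mul_apply, ← map_inv, MulAut.conj_apply]; group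
    have h1 : ψ (α a) = ψ a := by
      have h2 : ψ (β a) = ψ p * ψ a * (ψ p)⁻¹ := by rw [← hΘ, hl]
      rw [hβ, map_mul, map_mul, map_inv] at h2
      exact mul_left_cancel (mul_right_cancel h2)
    obtain ⟨x, hx, h2⟩ := mem_conj_of h (a := a) (u := α a) (hzc a) (fun x _ => haz x)
      (by
        intro x hx he
        obtain ⟨y, rfl⟩ := α.surjective x
        have h3 : α (y * a * y⁻¹) = α (a * z) := by
          rw [map_mul, map_mul, map_mul, map_inv, hz]; exact he
        exact haz y (α.injective h3))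
      ((hker _).1 (by rw [map_mul, map_inv, h1, mul_inv_cancel]))
    refine ⟨p * x, ?_⟩
    rcases h2 with h2 | h2
    · left; rw [hβ, h2]; group
    · right
      rw [hβ, h2]
      calc p * (x * a * x⁻¹ * z) * p⁻¹ = p * (x * a * x⁻¹) * (z * p⁻¹) := by group
        _ = p * (x * a * x⁻¹) * (p⁻¹ * z) := by rw [hzc]
        _ = p * x * a * (p * x)⁻¹ * z := by group
  let H : Subgroup (MulAut P) :=
    { carrier := {β | ∃ p, β a = p * a * p⁻¹}
      one_mem' := ⟨1, by simp⟩
      mul_mem' := by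
        rintro β γ ⟨p, hp⟩ ⟨r, hr⟩
        refine ⟨β r * p, ?_⟩
        rw [MulAut.mul_apply, hr, map_mul, map_mul, map_inv, hp]; group
      inv_mem' := by
        rintro β ⟨p, hp⟩
        refine ⟨β⁻¹ p⁻¹, ?_⟩
        apply β.injective
        have e1 : β ((β⁻¹ p)⁻¹) = p⁻¹ := by rw [map_inv]; exact congrArg _ (MulAut.apply_inv_self P β _)
        have e2 : β (β⁻¹ a) = a := MulAut.apply_inv_self P β a
        have e3 : β⁻¹ p⁻¹ = (β⁻¹ p)⁻¹ := map_inv _ _
        rw [e3, map_mul, map_mul, map_inv _ (β⁻¹ p)⁻¹, e1, e2, hp]; group }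
  have hmem : ∀ β, β ∈ H ↔ ∃ p, β a = p * a * p⁻¹ := fun β => Iff.rfl
  have hnot : ∀ β, β ∉ H → ∃ p, β a = p * a * p⁻¹ * z := by
    intro β hβ
    obtain ⟨p, hp | hp⟩ := key β
    · exact absurd ⟨p, hp⟩ hβ
    · exact ⟨p, hp⟩
  have htop : H = ⊤ := by
    have := conj_normal P
    refine eq_top_of_index (MulAut.conj : P →* MulAut P).range H hI ?_ ?_ (f := φ) ⟨1, by rw [hφ]; group⟩ ?_ ?_
    · rintro _ ⟨p, rfl⟩
      exact ⟨p, by rw [MulAut.conj_apply]⟩
    · intro β γ hβ hγ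
      obtain ⟨p, hp⟩ := hnot β hβ
      obtain ⟨r, hr⟩ := hnot γ hγ
      refine ⟨β r * p, ?_⟩
      rw [MulAut.mul_apply, hr, map_mul, map_mul, map_mul, map_inv, hp, hz]
      have hzz : z * (β r)⁻¹ * z = (β r)⁻¹ := by rw [mul_assoc, hzc, ← mul_assoc, h.z_sq, one_mul]
      calc β r * (p * a * p⁻¹ * z) * (β r)⁻¹ * z = β r * (p * a * p⁻¹) * (z * (β r)⁻¹ * z) := by group
        _ = β r * p * a * (β r * p)⁻¹ := by rw [hzz]; group
    · rintro ⟨p, hp⟩
      exact hφn p hp.symm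
    · rw [hφ2]; exact Subgroup.one_mem _
  have : β ∈ H := by rw [htop]; trivial
  exact this

end Theta

/-! ### The outer automorphism group of `K` -/

section Out

variable {K L : Type*} [Group K] [Group L] {Q : Subgroup K} {z : K}

/-- The stabiliser of `z` in the automorphism group. -/
def stab (z : K) : Subgroup (MulAut K) where
  carrier := {α | α z = z}
  one_mem' := rfl
  mul_mem' := by
    intro α β (hα : α z = z) (hβ : β z = z)
    show (α * β) z = z
    rw [MulAut.mul_apply, hβ, hα]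
  inv_mem' := by
    intro α (hα : α z = z)
    show α⁻¹ z = z
    have h1 := MulAut.inv_apply_self K α z
    rwa [hα] at h1

theorem mem_stab {α : MulAut K} : α ∈ stab z ↔ α z = z := Iff.rfl

theorem stab_cent {α : MulAut K} (hα : α z = z) {x : K} (hx : x ∈ Subgroup.centralizer ({z} : Set K)) :
    α x ∈ Subgroup.centralizer ({z} : Set K) := by
  rw [Subgroup.mem_centralizer_singleton_iff] at hx ⊢
  have h1 : α (x * z) = α (z * x) := by rw [hx]
  rw [map_mul, map_mul, hα] at h1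
  exact h1

/-- The restriction to the centraliser of `z`. -/
def resC (z : K) : stab z →* MulAut (Subgroup.centralizer ({z} : Set K)) where
  toFun α :=
    { toFun := fun x => ⟨(α : MulAut K) x, stab_cent α.2 x.2⟩
      invFun := fun x => ⟨(α : MulAut K)⁻¹ x, stab_cent (inv_mem α.2) x.2⟩
      left_inv := fun x => Subtype.ext (MulAut.inv_apply_self K α x)
      right_inv := fun x => Subtype.ext (MulAut.apply_inv_self K α x)
      map_mul' := fun x y => Subtype.ext (map_mul (α : MulAut K) (x : K) (y : K)) }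
  map_one' := rfl
  map_mul' := fun _ _ => rfl

theorem coe_resC (α : stab z) (x : Subgroup.centralizer ({z} : Set K)) : (resC z α x : K) = (α : MulAut K) x := rfl

/-- **`|Out(K)|` divides `|Out(C_K(z)/Q)|`**, if `z^K` is characteristic. -/
theorem index_dvd [Finite K] (h : Large Q z) (hirr : Irr Q z)
    (hf : ∀ f : Subgroup.centralizer ({z} : Set K) →* ℤˣ, ∀ u, f u = 1)
    (hT : ∀ β : MulAut K, (∀ c : K, c * z = z * c → β c = c) → β = 1 ∨ β = MulAut.conj z)
    {v : K} (hv : v ∈ Q) (hv1 : v ≠ 1) (hvz : v ≠ z) {D : Set K} (hD : ∀ d ∈ D, d * z = z * d)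
    (hfix : ∀ x ∈ Q, (∀ d ∈ D, d * x * d⁻¹ = x ∨ d * x * d⁻¹ = x * z) →
      x = 1 ∨ x = z ∨ x = v ∨ x = v * z)
    (hvD : ∀ d ∈ D, d * v * d⁻¹ = v ∨ d * v * d⁻¹ = v * z)
    (hcls : ∀ α : MulAut K, ∃ g : K, α z = g * z * g⁻¹)
    {ψ : Subgroup.centralizer ({z} : Set K) →* L} (hψ : Function.Surjective ψ) (hker : ∀ x, ψ x = 1 ↔ (x : K) ∈ Q)
    (hch : ∀ (β : MulAut (Subgroup.centralizer ({z} : Set K))) x, ψ x = 1 → ψ (β x) = 1) :
    (MulAut.conj : K →* MulAut K).range.index ∣ (MulAut.conj : L →* MulAut L).range.index := by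
  obtain ⟨Θ, hΘ⟩ := exists_theta ψ hψ hch
  have hn := conj_normal K
  have hn' := conj_normal L
  have htop : stab z ⊔ (MulAut.conj : K →* MulAut K).range = ⊤ := by
    rw [eq_top_iff]
    intro α _
    obtain ⟨g, hg⟩ := hcls α
    have h1 : α = (MulAut.conj g) * ((MulAut.conj g)⁻¹ * α) := by rw [mul_inv_cancel_left]
    rw [h1]
    apply Subgroup.mul_mem
    · exact Subgroup.mem_sup_right ⟨g, rfl⟩
    · apply Subgroup.mem_sup_left
      show ((MulAut.conj g)⁻¹ * α) z = z
      rw [MulAut.mul_apply, hg, ← map_inv, MulAut.conj_apply]; group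
  have h1 : (MulAut.conj : K →* MulAut K).range.index = ((MulAut.conj : K →* MulAut K).range.subgroupOf (stab z)).index := by
    rw [← Subgroup.relIndex_top_right, ← htop, Subgroup.relIndex_sup_right]
    rfl
  have h2 : (MulAut.conj : K →* MulAut K).range.subgroupOf (stab z) =
      (MulAut.conj : L →* MulAut L).range.comap (Θ.comp (resC z)) := by
    ext α
    rw [Subgroup.mem_subgroupOf, Subgroup.mem_comap]
    have hval : ∀ x, (Θ.comp (resC z)) α (ψ x) = ψ (resC z α x) := fun x => hΘ _ _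
    constructor
    · rintro ⟨g, hg⟩
      have hgz : g * z = z * g := by
        have h3 : (α : MulAut K) z = z := α.2
        rw [← hg, MulAut.conj_apply] at h3
        exact mul_inv_eq_iff_eq_mul.1 h3
      refine ⟨ψ ⟨g, Subgroup.mem_centralizer_singleton_iff.2 hgz⟩, ?_⟩
      ext l
      obtain ⟨x, rfl⟩ := hψ l
      rw [hval, MulAut.conj_apply, ← map_inv, ← map_mul, ← map_mul]
      congr 1
      apply Subtype.ext
      rw [coe_resC, ← hg, MulAut.conj_apply]
      rfl
    · rintro ⟨l, hl⟩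
      obtain ⟨p, rfl⟩ := hψ l
      set α' : MulAut K := (MulAut.conj (p : K))⁻¹ * α with hα'
      have hpz : (p : K) * z = z * p := Subgroup.mem_centralizer_singleton_iff.1 p.2
      have e : (α : MulAut K) = MulAut.conj (p : K) * α' := by rw [hα', mul_inv_cancel_left]
      have e' : ∀ x, α' x = (p : K)⁻¹ * (α : MulAut K) x * p := by
        intro x
        rw [hα', MulAut.mul_apply, ← map_inv, MulAut.conj_apply, inv_inv]
      have hz' : α' z = z := by
        have h3 : (α : MulAut K) z = z := α.2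
        rw [e', h3, mul_assoc, ← hpz, inv_mul_cancel_left]
      obtain ⟨y, -, hy⟩ := KFacts.LargeAut.exists_conj h hirr hf hT hv hv1 hvz hD hfix hvD (α := α') hz'
        (by
          intro u hu
          have huC : u ∈ Subgroup.centralizer ({z} : Set K) := Subgroup.mem_centralizer_singleton_iff.2 hu
          have h3 : ψ (p⁻¹ * resC z α ⟨u, huC⟩ * p * (⟨u, huC⟩ : Subgroup.centralizer ({z} : Set K))⁻¹) = 1 := by
            rw [map_mul, map_mul, map_mul, map_inv, map_inv, ← hval, ← hl, MulAut.conj_apply]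
            group
          have h4 := (hker _).1 h3
          rw [e']
          exact h4)
      exact ⟨p * y, by rw [map_mul, ← hy, e]⟩
  rw [h1, h2]
  exact index_comap_dvd _ _

end Out

end Cfsg.Agent.TwoESix.SheetB

end

-- merged: Cfsg.Agent.BabyU.ChartAsm
section

/-!
# U-B: assembly of `RootFacts`

`RootFacts` for the class of `r0` from the local data at one opposite pair `(r0, s0)`.
-/

set_option autoImplicit false
set_option linter.unusedSectionVars false

namespace Cfsg.Agent.BabyU.ChartAsm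

open Cfsg Cfsg.Agent.LieClassical.HermBasic Cfsg.Agent.R01.PSUSix
open Cfsg.Agent.ClassicalGeometry.UnitAutBasic (tau pr pr_surjective)
open Cfsg.Agent.SporadicStructure.UnitTwo (exists_omega)
open Cfsg.Agent.BabyU.RootCfg

variable {E : Type*} [Group E] {F : Type*} [Field F] [Fintype F]

/-- The centre of `PSU 6 F 2` is trivial. -/
theorem center_eq_bot (hF : Fintype.card F = 2 ^ 2) : Subgroup.center (PSU 6 F 2) = ⊥ := by
  have : IsSimpleGroup (PSU 6 F 2) := Cfsg.Agent.S0283.result (q := 2) hF 6 (by norm_num) (by norm_num)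
  rcases Subgroup.Normal.eq_bot_or_eq_top
    (inferInstance : (Subgroup.center (PSU 6 F 2)).Normal) with h | h
  · exact h
  · exfalso
    obtain ⟨ω, hω⟩ := exists_omega hF
    have h1 := (tau_commute_iff (n := 4 + 2) hF (by norm_num) (herm_u0 (F := F) (m := 4) hF)
      (herm_v0 (m := 4) hF hω) (u0_ne_zero (F := F) (m := 4) hF)).1 (by
        have h2 : tau hF (u0 F 4) ∈ Subgroup.center (PSU 6 F 2) := by rw [h]; trivial
        exact ((Subgroup.mem_center_iff.1 h2) (tau hF (v0 4 ω))).symm)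
    rw [herm_u0_v0 hF hω] at h1
    exact one_ne_zero h1

/-- The data at `r0`. -/
structure Data (hF : Fintype.card F = 2 ^ 2) (r0 s0 p70 p60 p25 : E)
    (ψ : Subgroup.centralizer ({r0} : Set E) →* PSU 6 F 2) : Prop where
  sq : r0 * r0 = 1
  ne : r0 ≠ 1
  pair : ∀ g : E, ∃ b : E, b * r0 = r0 * b ∧ (b * (g * r0 * g⁻¹) * b⁻¹ = r0 ∨
    b * (g * r0 * g⁻¹) * b⁻¹ = p70 ∨ b * (g * r0 * g⁻¹) * b⁻¹ = p60 ∨
    b * (g * r0 * g⁻¹) * b⁻¹ = p25 ∨ b * (g * r0 * g⁻¹) * b⁻¹ = s0)
  comm70 : p70 * r0 = r0 * p70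
  comm60 : p60 * r0 = r0 * p60
  ψ70 : ∀ h : p70 ∈ Subgroup.centralizer ({r0} : Set E), ψ ⟨p70, h⟩ = 1
  ψ60 : ∀ h : p60 ∈ Subgroup.centralizer ({r0} : Set E), ψ ⟨p60, h⟩ ∈ TT hF 6
  two25 : (r0 * p25) ^ 2 ≠ 1
  four25 : (r0 * p25) ^ 4 = 1
  ne0 : r0 ≠ s0
  three0 : (r0 * s0) ^ 3 = 1
  root0 : ∃ h : E, s0 = h * r0 * h⁻¹
  ker : ∀ x : Subgroup.centralizer ({r0} : Set E), ψ x = 1 → ∃ k : ℕ, x ^ 2 ^ k = 1
  surj0 : ∀ u, ∃ x : Subgroup.centralizer ({r0} : Set E), (x : E) * s0 = s0 * x ∧ ψ x = u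
  inj0 : ∀ x : Subgroup.centralizer ({r0} : Set E), (x : E) * s0 = s0 * x → ψ x = 1 → x = 1
  back0 : ∀ x : Subgroup.centralizer ({r0} : Set E), (x : E) * s0 = s0 * x → ψ x ∈ TT hF 6 →
    ∃ g : E, (x : E) = g * r0 * g⁻¹

/-- The class of `r0`. -/
def Cls (r0 : E) : Set E := {x | ∃ g : E, x = g * r0 * g⁻¹}

/-- Conjugation as a map between centralisers. -/
def cc (a r0 : E) : Subgroup.centralizer ({a * r0 * a⁻¹} : Set E) →* Subgroup.centralizer ({r0} : Set E) where
  toFun x := ⟨a⁻¹ * x * a, by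
    have h := mem_cent.1 x.2
    rw [mem_cent]
    calc a⁻¹ * (x : E) * a * r0 = a⁻¹ * ((x : E) * (a * r0 * a⁻¹)) * a := by group
      _ = a⁻¹ * ((a * r0 * a⁻¹) * x) * a := by rw [h]
      _ = r0 * (a⁻¹ * (x : E) * a) := by group⟩
  map_one' := Subtype.ext (by simp)
  map_mul' x y := Subtype.ext (by
    simp only [Subgroup.coe_mul]
    group)

theorem cc_coe (a r0 : E) (x : Subgroup.centralizer ({a * r0 * a⁻¹} : Set E)) :
    ((cc a r0 x : Subgroup.centralizer ({r0} : Set E)) : E) = a⁻¹ * x * a := rfl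

section

variable {hF : Fintype.card F = 2 ^ 2} {r0 s0 p70 p60 p25 : E}
  {ψ : Subgroup.centralizer ({r0} : Set E) →* PSU 6 F 2}

theorem conj_comm_iff {b x y : E} : b * x * b⁻¹ * (b * y * b⁻¹) = b * y * b⁻¹ * (b * x * b⁻¹) ↔
    x * y = y * x := by
  have h1 : b * x * b⁻¹ * (b * y * b⁻¹) = b * (x * y) * b⁻¹ := by group
  have h2 : b * y * b⁻¹ * (b * x * b⁻¹) = b * (y * x) * b⁻¹ := by group
  rw [h1, h2]
  exact ⟨fun h => mul_left_cancel (mul_right_cancel h), fun h => by rw [h]⟩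

theorem conj_self {b r0 : E} (hb : b * r0 = r0 * b) : b * r0 * b⁻¹ = r0 := by
  rw [hb]; group

theorem Data.ψr (D : Data hF r0 s0 p70 p60 p25 ψ) (h : r0 ∈ Subgroup.centralizer ({r0} : Set E)) :
    ψ ⟨r0, h⟩ = 1 := by
  have h1 : ψ ⟨r0, h⟩ ∈ Subgroup.center (PSU 6 F 2) := by
    rw [Subgroup.mem_center_iff]
    intro u
    obtain ⟨x, -, rfl⟩ := D.surj0 u
    rw [← map_mul, ← map_mul]
    congr 1
    exact Subtype.ext (mem_cent.1 x.2)
  rwa [center_eq_bot hF, Subgroup.mem_bot] at h1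

theorem Data.sq_cls (D : Data hF r0 s0 p70 p60 p25 ψ) {x : E} (hx : x ∈ Cls r0) : x * x = 1 := by
  obtain ⟨g, rfl⟩ := hx
  calc g * r0 * g⁻¹ * (g * r0 * g⁻¹) = g * (r0 * r0) * g⁻¹ := by group
    _ = 1 := by rw [D.sq]; group

theorem conj_cls {x : E} (hx : x ∈ Cls r0) (b : E) : b * x * b⁻¹ ∈ Cls r0 := by
  obtain ⟨g, rfl⟩ := hx
  exact ⟨b * g, by group⟩

/-- normal form of a member of the class with respect to `r0` -/
theorem Data.cases (D : Data hF r0 s0 p70 p60 p25 ψ) {x : E} (hx : x ∈ Cls r0) :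
    ∃ b : E, b * r0 = r0 * b ∧ (b * x * b⁻¹ = r0 ∨ b * x * b⁻¹ = p70 ∨ b * x * b⁻¹ = p60 ∨
      b * x * b⁻¹ = p25 ∨ b * x * b⁻¹ = s0) := by
  obtain ⟨g, rfl⟩ := hx
  exact D.pair g

theorem Data.ord0 (D : Data hF r0 s0 p70 p60 p25 ψ) {x : E} (hx : x ∈ Cls r0) :
    (r0 * x) ^ 4 = 1 ∨ (r0 * x) ^ 3 = 1 := by
  obtain ⟨b, hb, h⟩ := D.cases hx
  have hb' := conj_self hb
  have h2 := D.sq_cls (conj_cls hx b)
  have key : b * (r0 * x) * b⁻¹ = r0 * (b * x * b⁻¹) := by
    calc b * (r0 * x) * b⁻¹ = (b * r0 * b⁻¹) * (b * x * b⁻¹) := by group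
      _ = _ := by rw [hb']
  have hpow : ∀ n : ℕ, (r0 * (b * x * b⁻¹)) ^ n = 1 → (r0 * x) ^ n = 1 := by
    intro n hn
    rw [← key, conj_pow] at hn
    have := congrArg (fun y => b⁻¹ * y * b) hn
    simpa [mul_assoc] using this
  have hcomm : ∀ y : E, y * y = 1 → y * r0 = r0 * y → (r0 * y) ^ 4 = 1 := by
    intro y hy hyr
    have h1 : (r0 * y) ^ 2 = 1 := by
      rw [pow_two]
      calc r0 * y * (r0 * y) = r0 * (y * r0) * y := by group
        _ = (r0 * r0) * (y * y) := by rw [hyr]; group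
        _ = 1 := by rw [D.sq, hy, one_mul]
    rw [show (4 : ℕ) = 2 * 2 from rfl, pow_mul, h1, one_pow]
  rcases h with h | h | h | h | h
  · left
    apply hpow
    rw [h, D.sq, one_pow]
  · left
    apply hpow
    rw [h] at h2 ⊢
    exact hcomm _ h2 D.comm70
  · left
    apply hpow
    rw [h] at h2 ⊢
    exact hcomm _ h2 D.comm60
  · left
    apply hpow
    rw [h]
    exact D.four25
  · right
    apply hpow
    rw [h]
    exact D.three0

/-- a member opposite to `r0` is conjugate to `s0` under the centraliser of `r0` -/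
theorem Data.opp0 (D : Data hF r0 s0 p70 p60 p25 ψ) {x : E} (hx : x ∈ Cls r0) (ho : Opp r0 x) :
    ∃ b : E, b * r0 = r0 * b ∧ b * x * b⁻¹ = s0 := by
  obtain ⟨b, hb, h⟩ := D.cases hx
  have h2 := D.sq_cls (conj_cls hx b)
  have ho' := ho.conj b
  rw [conj_self hb] at ho'
  refine ⟨b, hb, ?_⟩
  rcases h with h | h | h | h | h
  · exact absurd h.symm ho'.1
  · rw [h] at ho' h2
    exact absurd D.comm70.symm (ho'.not_comm D.sq h2)
  · rw [h] at ho' h2
    exact absurd D.comm60.symm (ho'.not_comm D.sq h2)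
  · exfalso
    rw [h] at ho'
    apply D.two25
    have h3 := ho'.2
    have h4 := D.four25
    rw [pow_succ, h3, one_mul] at h4
    rw [h4, one_pow]
  · exact h

theorem Data.root_aux (D : Data hF r0 s0 p70 p60 p25 ψ) (x : Subgroup.centralizer ({r0} : Set E))
    (hx : (x : E) ∈ Cls r0) : ψ x = 1 ∨ ψ x ∈ TT hF 6 := by
  obtain ⟨b, hb, h⟩ := D.cases hx
  have h2 := D.sq_cls (conj_cls hx b)
  have hxr : (x : E) * r0 = r0 * x := mem_cent.1 x.2
  have hy : b * (x : E) * b⁻¹ * r0 = r0 * (b * (x : E) * b⁻¹) := by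
    have := (conj_comm_iff (b := b)).2 hxr
    rwa [conj_self hb] at this
  set b' : Subgroup.centralizer ({r0} : Set E) := ⟨b, mem_cent.2 hb⟩ with hb'
  have hψ : ψ x = (ψ b')⁻¹ * ψ (b' * x * b'⁻¹) * ψ b' := by
    rw [map_mul, map_mul, map_inv]; group
  have hval : ((b' * x * b'⁻¹ : Subgroup.centralizer ({r0} : Set E)) : E) = b * x * b⁻¹ := rfl
  have hone : ψ (b' * x * b'⁻¹) = 1 → ψ x = 1 := by
    intro h0
    rw [hψ, h0]; group
  rcases h with h | h | h | h | h
  · left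
    apply hone
    have : b' * x * b'⁻¹ = ⟨r0, mem_cent.2 rfl⟩ := Subtype.ext h
    rw [this, D.ψr]
  · left
    apply hone
    have : b' * x * b'⁻¹ = ⟨p70, mem_cent.2 D.comm70⟩ := Subtype.ext h
    rw [this, D.ψ70]
  · right
    have : b' * x * b'⁻¹ = ⟨p60, mem_cent.2 D.comm60⟩ := Subtype.ext h
    rw [hψ, this]
    have h3 := conj_mem_TT hF (D.ψ60 (mem_cent.2 D.comm60)) (ψ b')⁻¹
    rwa [inv_inv] at h3
  · exfalso
    rw [h] at hy h2
    apply D.two25
    rw [pow_two]
    calc r0 * p25 * (r0 * p25) = r0 * (p25 * r0) * p25 := by group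
      _ = (r0 * r0) * (p25 * p25) := by rw [hy]; group
      _ = 1 := by rw [D.sq, h2, one_mul]
  · exfalso
    rw [h] at hy h2
    exact (show Opp r0 s0 from ⟨D.ne0, D.three0⟩).not_comm D.sq h2 hy.symm

theorem rootFacts (D : Data hF r0 s0 p70 p60 p25 ψ) : RootFacts hF (Cls r0) where
  sq r hr := D.sq_cls hr
  ne := by
    rintro _ ⟨g, rfl⟩ h
    apply D.ne
    have := congrArg (fun y => g⁻¹ * y * g) h
    simpa [mul_assoc] using this
  conj r hr g := conj_cls hr g
  one := by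
    rintro _ ⟨a, rfl⟩ _ ⟨c, rfl⟩
    exact ⟨c * a⁻¹, by group⟩
  ord := by
    rintro _ ⟨a, rfl⟩ s hs
    have h1 := D.ord0 (conj_cls hs a⁻¹)
    rw [inv_inv] at h1
    have key : a * (r0 * (a⁻¹ * s * a)) * a⁻¹ = a * r0 * a⁻¹ * s := by group
    have hpow : ∀ n : ℕ, (r0 * (a⁻¹ * s * a)) ^ n = 1 → (a * r0 * a⁻¹ * s) ^ n = 1 := by
      intro n hn
      rw [← key, conj_pow, hn, mul_one, mul_inv_cancel]
    exact h1.imp (hpow 4) (hpow 3)
  opp := by
    obtain ⟨h, hh⟩ := D.root0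
    exact ⟨r0, ⟨1, by group⟩, s0, ⟨h, hh⟩, D.ne0, D.three0⟩
  chart := by
    rintro _ ⟨a, rfl⟩
    -- the local situation for an opposite member
    have hopp : ∀ s ∈ Cls r0, Opp (a * r0 * a⁻¹) s →
        ∃ b : E, b * r0 = r0 * b ∧ b * (a⁻¹ * s * a) * b⁻¹ = s0 := by
      intro s hs ho
      have h1 := ho.conj a⁻¹
      have h2 : a⁻¹ * (a * r0 * a⁻¹) * a⁻¹⁻¹ = r0 := by group
      rw [h2, inv_inv] at h1
      have h3 := conj_cls hs a⁻¹
      rw [inv_inv] at h3
      exact D.opp0 h3 h1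
    refine ⟨ψ.comp (cc a r0), ?_, ?_, ?_, ?_, ?_⟩
    · -- ker
      intro x hx
      obtain ⟨k, hk⟩ := D.ker _ hx
      refine ⟨k, Subtype.ext ?_⟩
      have h1 := congrArg Subtype.val hk
      rw [Subgroup.coe_pow, cc_coe] at h1
      have h2 : (a⁻¹ * (x : E) * a) ^ 2 ^ k = a⁻¹ * (x : E) ^ 2 ^ k * a := by
        have := conj_pow (i := 2 ^ k) (a := a⁻¹) (b := (x : E))
        rwa [inv_inv] at this
      rw [h2] at h1
      rw [Subgroup.coe_pow]
      have h3 := congrArg (fun y => a * y * a⁻¹) h1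
      simpa [mul_assoc] using h3
    · -- root
      intro x hx
      refine D.root_aux _ ?_
      rw [cc_coe]
      have := conj_cls hx a⁻¹
      rwa [inv_inv] at this
    · -- surj
      intro s hs ho u
      obtain ⟨b, hb, hbs⟩ := hopp s hs ho
      set b' : Subgroup.centralizer ({r0} : Set E) := ⟨b, mem_cent.2 hb⟩ with hb'
      obtain ⟨x, hx, hxu⟩ := D.surj0 (ψ b' * u * (ψ b')⁻¹)
      set y : Subgroup.centralizer ({r0} : Set E) := b'⁻¹ * x * b' with hy
      have hyu : ψ y = u := by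
        rw [hy, map_mul, map_mul, map_inv, hxu]; group
      have hys : (y : E) * (a⁻¹ * s * a) = a⁻¹ * s * a * y := by
        have h1 : b * (y : E) * b⁻¹ = x := by
          change b * (b⁻¹ * (x : E) * b) * b⁻¹ = x
          group
        rw [← conj_comm_iff (b := b), h1, hbs]
        exact hx
      refine ⟨⟨a * y * a⁻¹, ?_⟩, ?_, ?_⟩
      · rw [mem_cent, conj_comm_iff]
        exact mem_cent.1 y.2
      · have h1 : a * (a⁻¹ * s * a) * a⁻¹ = s := by group
        have h2 := (conj_comm_iff (b := a)).2 hys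
        rwa [h1] at h2
      · have h1 : cc a r0 ⟨a * y * a⁻¹, by rw [mem_cent, conj_comm_iff]; exact mem_cent.1 y.2⟩ = y := by
          apply Subtype.ext
          rw [cc_coe]
          change a⁻¹ * (a * (y : E) * a⁻¹) * a = y
          group
        rw [MonoidHom.comp_apply, h1, hyu]
    · -- inj
      intro s hs ho x hxs hx
      obtain ⟨b, hb, hbs⟩ := hopp s hs ho
      set b' : Subgroup.centralizer ({r0} : Set E) := ⟨b, mem_cent.2 hb⟩ with hb'
      set y := cc a r0 x with hy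
      have hys : (y : E) * (a⁻¹ * s * a) = a⁻¹ * s * a * y := by
        have := (conj_comm_iff (b := a⁻¹)).2 hxs
        rwa [inv_inv] at this
      have h1 : ((b' * y * b'⁻¹ : Subgroup.centralizer ({r0} : Set E)) : E) * s0 =
          s0 * ((b' * y * b'⁻¹ : Subgroup.centralizer ({r0} : Set E)) : E) := by
        change b * (y : E) * b⁻¹ * s0 = s0 * (b * (y : E) * b⁻¹)
        rw [← hbs, conj_comm_iff]
        exact hys
      have h2 : ψ (b' * y * b'⁻¹) = 1 := by
        rw [map_mul, map_mul, map_inv]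
        have h3 : ψ y = 1 := hx
        rw [h3]; group
      have h3 := D.inj0 _ h1 h2
      have h4 : y = 1 := by
        have := congrArg (fun z => b'⁻¹ * z * b') h3
        simpa [mul_assoc] using this
      apply Subtype.ext
      have h5 := congrArg Subtype.val h4
      rw [hy, cc_coe] at h5
      have h6 := congrArg (fun z => a * z * a⁻¹) h5
      simpa [mul_assoc] using h6
    · -- back
      intro s hs ho x hxs hx
      obtain ⟨b, hb, hbs⟩ := hopp s hs ho
      set b' : Subgroup.centralizer ({r0} : Set E) := ⟨b, mem_cent.2 hb⟩ with hb'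
      set y := cc a r0 x with hy
      have hys : (y : E) * (a⁻¹ * s * a) = a⁻¹ * s * a * y := by
        have := (conj_comm_iff (b := a⁻¹)).2 hxs
        rwa [inv_inv] at this
      have h1 : ((b' * y * b'⁻¹ : Subgroup.centralizer ({r0} : Set E)) : E) * s0 =
          s0 * ((b' * y * b'⁻¹ : Subgroup.centralizer ({r0} : Set E)) : E) := by
        change b * (y : E) * b⁻¹ * s0 = s0 * (b * (y : E) * b⁻¹)
        rw [← hbs, conj_comm_iff]
        exact hys
      have h2 : ψ (b' * y * b'⁻¹) ∈ TT hF 6 := by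
        rw [map_mul, map_mul, map_inv]
        exact conj_mem_TT hF hx _
      obtain ⟨g, hg⟩ := D.back0 _ h1 h2
      have h3 : b * (y : E) * b⁻¹ = g * r0 * g⁻¹ := hg
      have h4 : (x : E) = a * (y : E) * a⁻¹ := by
        rw [hy, cc_coe]; group
      refine ⟨a * b⁻¹ * g, ?_⟩
      rw [h4]
      have h5 : (y : E) = b⁻¹ * (g * r0 * g⁻¹) * b := by
        rw [← h3]; group
      rw [h5]
      group

end

end Cfsg.Agent.BabyU.ChartAsm

end

-- merged: Cfsg.Agent.TwoESix.SheetPSU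
section

/-!
# The outer automorphism group of `PSU₆(2)`

`index_PSU`: `|Out(PSU₆(2))| = 6`; `exists_conj_TT`: automorphisms preserve the class of transvections.
-/

set_option autoImplicit false
set_option linter.unusedSectionVars false

namespace Cfsg.Agent.TwoESix.SheetPSU

open Cfsg Cfsg.Agent.LieClassical.HermBasic Cfsg.Agent.LieClassical.HermSiegel
  Cfsg.Agent.LieClassical.HermGen Cfsg.Agent.R01.PSUSix Cfsg.Agent.ClassicalGeometry.PSUAutBasic
  Cfsg.Agent.ClassicalGeometry.PSUAutSylow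
open Cfsg.Agent.ClassicalGeometry.UnitAutBasic (tau tau_def c0 c0_ne_zero c0_tr isSiegel_c0)

variable {F : Type*} [Field F] [Fintype F] (hF : Fintype.card F = 2 ^ 2)
include hF

/-- `|Out(PSU₆(2))| = 6`. -/
theorem index_PSU : (MulAut.conj : PSU 6 F 2 →* MulAut (PSU 6 F 2)).range.index = 6 := by
  have : Fact (Nat.Prime 2) := ⟨Nat.prime_two⟩
  have h1 := Cfsg.Agent.S0815.result (F := F) 2 1 le_rfl (q := 2) (by norm_num) hF 6 (by norm_num) (by norm_num)
  have hinj : Function.Injective (MulAut.conj : PSU 6 F 2 →* MulAut (PSU 6 F 2)) := by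
    rw [injective_iff_map_eq_one]
    intro x hx
    have h2 : x ∈ Subgroup.center (PSU 6 F 2) := by
      rw [Subgroup.mem_center_iff]
      intro y
      have h3 := DFunLike.congr_fun hx y
      rw [MulAut.conj_apply, MulAut.one_apply] at h3
      exact (mul_inv_eq_iff_eq_mul.1 h3).symm
    rwa [BabyU.ChartAsm.center_eq_bot hF, Subgroup.mem_bot] at h2
  have h2 : Nat.card (MulAut.conj : PSU 6 F 2 →* MulAut (PSU 6 F 2)).range = Nat.card (PSU 6 F 2) :=
    (Nat.card_congr (MonoidHom.ofInjective hinj).toEquiv).symm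
  have h3 := (MulAut.conj : PSU 6 F 2 →* MulAut (PSU 6 F 2)).range.card_mul_index
  rw [h2, h1] at h3
  have h4 : 0 < Nat.card (PSU 6 F 2) := Nat.card_pos
  have h5 : Nat.gcd 6 (2 + 1) * (2 * 1) = 6 := by norm_num
  rw [h5, mul_comm] at h3
  exact Nat.eq_of_mul_eq_mul_right h4 h3

theorem trace_zero {μ : F} (h0 : μ ≠ 0) (h : μ + μ ^ 2 = 0) : μ = -1 := by
  have h1 : μ * (1 + μ) = 0 := by linear_combination h
  rcases mul_eq_zero.1 h1 with h2 | h2
  · exact absurd h2 h0
  · linear_combination h2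

/-- Automorphisms preserve the transvections. -/
theorem map_TT (γ : MulAut (PSU 6 F 2)) {t : PSU 6 F 2} (ht : t ∈ TT hF 6) : γ t ∈ TT hF 6 := by
  obtain ⟨v, v0, vv, rfl⟩ := ht
  obtain ⟨u, u0, uu, hu⟩ := exists_map_RR (n := 6) hF (by norm_num) γ v0 vv
  have h1 : tau hF v ∈ RR hF v vv :=
    mem_RR.2 ⟨c0 hF, c0_tr hF, by rw [tau_def, Cfsg.Agent.ClassicalGeometry.UnitAutBasic.T_eq hF vv]; rfl⟩
  have h2 : γ (tau hF v) ∈ RR hF u uu := by
    rw [← hu]; exact ⟨_, h1, rfl⟩
  obtain ⟨μ, hμ, h3⟩ := mem_RR.1 h2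
  refine ⟨u, u0, uu, ?_⟩
  rw [h3]
  by_cases h0 : μ = 0
  · exfalso
    subst h0
    have h4 : transv hF u uu 0 hμ = 1 := by
      apply ext_act
      intro w
      rw [act_transv, zero_mul, zero_smul, add_zero, act_one]
    rw [h4, map_one] at h3
    have h5 : tau hF v = 1 := γ.injective (h3.trans (map_one γ).symm)
    exact v0 ((Cfsg.Agent.ClassicalGeometry.UnitAutBasic.tau_eq_one_iff hF (by norm_num) vv).1 h5)
  · have h4 : μ = c0 hF := (trace_zero hF h0 hμ).trans (trace_zero hF (c0_ne_zero hF) (c0_tr hF)).symm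
    subst h4
    rw [tau_def, Cfsg.Agent.ClassicalGeometry.UnitAutBasic.T_eq hF uu]; rfl

/-- Automorphisms map a transvection to a conjugate. -/
theorem exists_conj_TT (γ : MulAut (PSU 6 F 2)) {t : PSU 6 F 2} (ht : t ∈ TT hF 6) : ∃ l, γ t = l * t * l⁻¹ := by
  obtain ⟨d, hd, h1⟩ := (isThreeTranspositionClass_TT (F := F) hF (n := 6) (by norm_num)).2.1
  have h2 := map_TT hF γ ht
  rw [h1] at ht h2
  have h3 : IsConj t (γ t) := IsConj.trans (IsConj.symm ht) h2
  obtain ⟨l, hl⟩ := isConj_iff.1 h3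
  exact ⟨l, hl.symm⟩

end Cfsg.Agent.TwoESix.SheetPSU

end

-- merged: Cfsg.Agent.TwoESix.SheetD
section

/-!
# The fact sheet of `²E₆(2)`: automorphisms of `P = C_E(z)` and of `E`

`exists_chart`: `P → PSU₆(2)` with kernel `R`; `index_out`: `|Out(E)|` divides six; `hw`: the `y`-trick, given an
outer automorphism of order two of `P` fixing the root involution `a0`.
-/

set_option autoImplicit false
set_option linter.unusedSectionVars false
set_option linter.unusedVariables false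

namespace Cfsg.Agent.TwoESix.SheetD

open Cfsg Cfsg.Lie
open Cfsg.Agent.ChevalleyStructure
open Cfsg.Agent.ChevalleyStructure.TwE6Basic
open Cfsg.Agent.ChevalleyStructure.TwE6BN
open Cfsg.Agent.TwoESix.LeviA
open Cfsg.Agent.TwoESix.LongPairs
open Cfsg.Agent.TwoESix.LongCard
open Cfsg.Agent.TwoESix.FlagH
open Cfsg.Agent.TwoESix.FlagI
open Cfsg.Agent.TwoESix.KeyExtra
open Cfsg.Agent.TwoESix.SheetA
open Cfsg.Agent.R01.PSUSix (TT)
open Cfsg.Agent.BabyU (rootClass)
open Cfsg.Agent.Co2Type.Quad (Large)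
open Cfsg.Agent.KFacts.LargeO2 (Irr)

open scoped commutatorElement Pointwise

universe u

/-! ### Restriction to the centraliser -/

section Sub

variable {G : Type*} [Group G] {Q : Subgroup G} {z : G}

theorem large_sub (h : Large Q z) : Large (Q.subgroupOf (Subgroup.centralizer ({z} : Set G)))
    (⟨z, Subgroup.mem_centralizer_singleton_iff.2 rfl⟩ : Subgroup.centralizer ({z} : Set G)) where
  z_mem := h.z_mem
  z_ne := fun h' => h.z_ne (congrArg Subtype.val h')
  z_sq := Subtype.ext h.z_sq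
  comm_z := fun x hx => Subtype.ext (h.comm_z x hx)
  conj_mem := fun g hg x hx => h.conj_mem g (congrArg Subtype.val hg) x hx
  sq := fun x hx => (h.sq x hx).imp (fun e => Subtype.ext e) (fun e => Subtype.ext e)
  comm := fun x hx y hy => (h.comm x hx y hy).imp (fun e => Subtype.ext e) (fun e => Subtype.ext e)
  cent := fun x hx hc => (h.cent x hx (fun y hy => congrArg Subtype.val
    (hc ⟨y, Subgroup.mem_centralizer_singleton_iff.2 (h.comm_z y hy)⟩ hy))).imp
      (fun e => Subtype.ext e) (fun e => Subtype.ext e)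
  self := fun g hg hc => h.self g (congrArg Subtype.val hg) (fun y hy => congrArg Subtype.val
    (hc ⟨y, Subgroup.mem_centralizer_singleton_iff.2 (h.comm_z y hy)⟩ hy))

theorem irr_sub (h : Large Q z) (hirr : Irr Q z) : Irr (Q.subgroupOf (Subgroup.centralizer ({z} : Set G)))
    (⟨z, Subgroup.mem_centralizer_singleton_iff.2 rfl⟩ : Subgroup.centralizer ({z} : Set G)) := by
  intro N hN hinv
  rcases hirr (N.map (Subgroup.centralizer ({z} : Set G)).subtype)
    (by rintro _ ⟨x, hx, rfl⟩; exact hN hx)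
    (by
      rintro u hu _ ⟨x, hx, rfl⟩
      exact ⟨_, hinv ⟨u, Subgroup.mem_centralizer_singleton_iff.2 hu⟩ (Subtype.ext hu) x hx, rfl⟩) with h1 | h1
  · left
    intro y hy
    exact (h1 y ⟨y, hy, rfl⟩).imp (fun e => Subtype.ext e) (fun e => Subtype.ext e)
  · right
    apply le_antisymm hN
    intro y hy
    have h2 : (y : G) ∈ N.map (Subgroup.centralizer ({z} : Set G)).subtype := by rw [h1]; exact hy
    obtain ⟨x, hx, e⟩ := h2
    have : x = y := Subtype.ext e
    rwa [this] at hx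

end Sub

variable {K : Type u} [Field K]

section Four

variable [Fintype K] {φ : K →+* K} (F : Four K φ)
include F

theorem hF4 : Fintype.card K = 2 ^ 2 := by rw [F.card]; norm_num

/-- The pairs of type `60`. -/
theorem pair60 {X : ↥(twistedE6 K 2)} (hT : X ∈ rootClass K) (hc : X * r0 F = r0 F * X) (hne : X ≠ r0 F)
    (hn : X * r0 F ∉ rootClass K) :
    ∃ y : ↥(twistedE6 K 2), y * r0 F = r0 F * y ∧ X = y * a0 F * y⁻¹ := by
  have := F.charP
  obtain ⟨h, rfl⟩ := exists_conj F hT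
  obtain ⟨k, hk, h1, γ, hγ, h2⟩ := pair_general F (one_mem (twistedE6 K 2)) h.2
  generalize hX : h * r0 F * h⁻¹ = X at *
  have hX' : (h : GL chevE6.Idx K) * x 71 1 * (h : GL chevE6.Idx K)⁻¹ = (X : GL chevE6.Idx K) := by rw [← hX]; rfl
  rw [hX'] at h2
  have hk0 : (⟨k, hk⟩ : ↥(twistedE6 K 2)) * r0 F = r0 F * ⟨k, hk⟩ := by
    apply Subtype.ext
    show k * x 71 1 = x 71 1 * k
    rw [inv_one, one_mul, mul_one] at h1
    exact mul_inv_eq_iff_eq_mul.1 h1
  have hk0' : (⟨k, hk⟩ : ↥(twistedE6 K 2))⁻¹ * r0 F = r0 F * (⟨k, hk⟩ : ↥(twistedE6 K 2))⁻¹ := by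
    rw [inv_mul_eq_iff_eq_mul, ← mul_assoc, hk0, mul_assoc, mul_inv_cancel, mul_one]
  have e : (((⟨k, hk⟩ : ↥(twistedE6 K 2)) * X * (⟨k, hk⟩ : ↥(twistedE6 K 2))⁻¹ : ↥(twistedE6 K 2)) : GL chevE6.Idx K) =
      x γ 1 := h2
  generalize (⟨k, hk⟩ : ↥(twistedE6 K 2)) = κ at *
  have hkx : κ * X * κ⁻¹ * r0 F = r0 F * (κ * X * κ⁻¹) := by
    calc κ * X * κ⁻¹ * r0 F = κ * X * (κ⁻¹ * r0 F) := by group
      _ = κ * (X * r0 F) * κ⁻¹ := by rw [hk0']; group
      _ = (κ * r0 F) * X * κ⁻¹ := by rw [hc]; group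
      _ = r0 F * (κ * X * κ⁻¹) := by rw [hk0]; group
  have hc' : x γ (1 : K) * x 71 1 = x 71 1 * x γ 1 := by
    rw [← e]
    exact congrArg Subtype.val hkx
  simp only [List.mem_cons, List.not_mem_nil, or_false] at hγ
  rcases hγ with rfl | rfl | rfl | rfl | rfl
  · exfalso
    have h3 : κ * X * κ⁻¹ = r0 F := Subtype.ext e
    apply hne
    calc X = κ⁻¹ * (κ * X * κ⁻¹) * κ := by group
      _ = κ⁻¹ * (r0 F * κ) := by rw [h3]; group
      _ = r0 F := by rw [← hk0]; group
  · exfalso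
    have h3 : κ * X * κ⁻¹ = c0 F := Subtype.ext e
    apply hn
    have h4 : κ⁻¹ * (r0 F * c0 F) * κ⁻¹⁻¹ = X * r0 F := by
      rw [← h3, ← hkx, inv_inv]
      calc κ⁻¹ * (κ * X * κ⁻¹ * r0 F) * κ = X * (κ⁻¹ * r0 F) * κ := by group
        _ = X * r0 F := by rw [hk0']; group
    rw [← h4]
    exact conj_T (bc_mem F) κ⁻¹
  · refine ⟨κ⁻¹, hk0', ?_⟩
    have h3 : κ * X * κ⁻¹ = a0 F := Subtype.ext e
    rw [← h3]; group
  · exfalso
    have h3 : (x 71 (1 : K) * x 25 1) ^ 2 = 1 := by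
      rw [pow_two]
      calc x 71 (1 : K) * x 25 1 * (x 71 1 * x 25 1) = x 71 1 * (x 25 1 * x 71 1) * x 25 1 := by group
        _ = (x 71 1 * x 71 1) * (x 25 1 * x 25 1) := by rw [hc']; group
        _ = 1 := by rw [x_sq, x_sq, one_mul]
    rw [sq25] at h3
    exact x_ne_one (K := K) (r := 70) (by norm_num) h3
  · exfalso
    have h3 : (x 71 (1 : K) * x 0 1) ^ 2 = 1 := by
      rw [pow_two]
      calc x 71 (1 : K) * x 0 1 * (x 71 1 * x 0 1) = x 71 1 * (x 0 1 * x 71 1) * x 0 1 := by group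
        _ = (x 71 1 * x 71 1) * (x 0 1 * x 0 1) := by rw [hc']; group
        _ = 1 := by rw [x_sq, x_sq, one_mul]
    have h4 := cube0 (K := K)
    rw [pow_succ, h3, one_mul] at h4
    have h5 : x 71 (1 : K) = x 0 1 := by
      rw [eq_inv_of_mul_eq_one_left h4, inv_eq_of_mul_eq_one_left (x_sq 0)]
    exact x_ne (K := K) (r := 71) (s := 0) (by norm_num) (by norm_num) (by norm_num) h5

/-- `R` is characteristic in `P`. -/
theorem RE_char (β : MulAut (Subgroup.centralizer ({r0 F} : Set ↥(twistedE6 K 2))))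
    (x' : Subgroup.centralizer ({r0 F} : Set ↥(twistedE6 K 2))) (hx : (x' : ↥(twistedE6 K 2)) ∈ RE K) :
    ((β x' : Subgroup.centralizer ({r0 F} : Set ↥(twistedE6 K 2))) : ↥(twistedE6 K 2)) ∈ RE K := by
  have := finite_E (K := K)
  have hR2 : IsPGroup 2 ↥(RE K) := (S_two F).to_le fun q hq => UR_le_U hq
  let N : Subgroup ↥(twistedE6 K 2) :=
    (((RE K).subgroupOf (Subgroup.centralizer ({r0 F} : Set ↥(twistedE6 K 2)))).map β.toMonoidHom).map
      (Subgroup.centralizer ({r0 F} : Set ↥(twistedE6 K 2))).subtype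
  have hN : N ≤ RE K := by
    apply R_max F
    · rintro _ ⟨y, -, rfl⟩
      exact Subgroup.mem_centralizer_singleton_iff.1 y.2
    · apply IsPGroup.map
      apply IsPGroup.map
      exact hR2.comap_subtype
    · rintro y hy _ ⟨_, ⟨w, hw, rfl⟩, rfl⟩
      obtain ⟨v, hv⟩ := β.surjective ⟨y, Subgroup.mem_centralizer_singleton_iff.2 hy⟩
      refine ⟨β (v * w * v⁻¹), ⟨v * w * v⁻¹, ?_, rfl⟩, ?_⟩
      · exact R_norm F v (Subgroup.mem_centralizer_singleton_iff.1 v.2) w hw
      · have h1 : β (v * w * v⁻¹) = β v * β w * (β v)⁻¹ := by rw [map_mul, map_mul, map_inv]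
        rw [h1, hv]
        rfl
  exact hN ⟨_, ⟨x', hx, rfl⟩, rfl⟩

/-- **The chart at `z`**: `P → PSU₆(2)` with kernel `R`. -/
theorem exists_chart : ∃ ψ : ↥(Subgroup.centralizer ({r0 F} : Set ↥(twistedE6 K 2))) →* PSU 6 K 2,
    Function.Surjective ψ ∧ (∀ x', ψ x' = 1 ↔ (x' : ↥(twistedE6 K 2)) ∈ RE K) ∧
    ∀ h : a0 F ∈ Subgroup.centralizer ({r0 F} : Set ↥(twistedE6 K 2)), ψ ⟨a0 F, h⟩ ∈ TT (hF4 F) 6 := by
  have := finite_E (K := K)
  have RF := LeviG.rootFacts_four F (hF4 F)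
  have hr : r0 F ∈ rootClass K := xe_T F 71 (by decide +kernel)
  obtain ⟨ψ, C⟩ := RF.chart (r0 F) hr
  obtain ⟨r, hr', s, hs', hop⟩ := RF.opp
  obtain ⟨g, hg⟩ := RF.one r hr' (r0 F) hr
  have hs0 : g * s * g⁻¹ ∈ rootClass K := RF.conj s hs' g
  have hop0 : BabyU.RootCfg.Opp (r0 F) (g * s * g⁻¹) := by
    have h1 := hop.conj g
    rwa [hg] at h1
  have hsurj : Function.Surjective ψ := fun u => by
    obtain ⟨x', -, h⟩ := C.surj _ hs0 hop0 u
    exact ⟨x', h⟩
  have hR2 : IsPGroup 2 ↥(RE K) := (S_two F).to_le fun q hq => UR_le_U hq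
  have hker1 : ∀ x', ψ x' = 1 → (x' : ↥(twistedE6 K 2)) ∈ RE K := by
    have h1 : (ψ.ker.map (Subgroup.centralizer ({r0 F} : Set ↥(twistedE6 K 2))).subtype) ≤ RE K := by
      apply R_max F
      · rintro _ ⟨y, -, rfl⟩
        exact Subgroup.mem_centralizer_singleton_iff.1 y.2
      · apply IsPGroup.map
        rintro ⟨y, hy⟩
        obtain ⟨k, hk⟩ := C.ker y hy
        exact ⟨k, Subtype.ext hk⟩
      · rintro y hy _ ⟨w, hw, rfl⟩
        exact ⟨_, (inferInstance : ψ.ker.Normal).conj_mem w hw ⟨y, Subgroup.mem_centralizer_singleton_iff.2 hy⟩, rfl⟩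
    intro x' hx
    exact h1 ⟨x', hx, rfl⟩
  have hker2 : ∀ x' : ↥(Subgroup.centralizer ({r0 F} : Set ↥(twistedE6 K 2))),
      (x' : ↥(twistedE6 K 2)) ∈ RE K → ψ x' = 1 := by
    let N : Subgroup (PSU 6 K 2) := ((RE K).subgroupOf (Subgroup.centralizer ({r0 F} : Set ↥(twistedE6 K 2)))).map ψ
    have hN2 : IsPGroup 2 N := (hR2.comap_subtype).map ψ
    have hNn : N.Normal := by
      constructor
      rintro _ ⟨y, hy, rfl⟩ l
      obtain ⟨p, rfl⟩ := hsurj l
      refine ⟨p * y * p⁻¹, R_norm F p (Subgroup.mem_centralizer_singleton_iff.1 p.2) y hy, ?_⟩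
      rw [map_mul, map_mul, map_inv]
    have hs : IsSimpleGroup (PSU 6 K 2) := Cfsg.Agent.S0283.result (q := 2) (hF4 F) 6 (by norm_num) (by norm_num)
    have hNb : N = ⊥ := by
      rcases hNn.eq_bot_or_eq_top with h | h
      · exact h
      · exfalso
        have : Fact (Nat.Prime 2) := ⟨Nat.prime_two⟩
        have h2 : IsPGroup 2 (PSU 6 K 2) := by
          intro u
          obtain ⟨k, hk⟩ := hN2 ⟨u, by rw [h]; trivial⟩
          exact ⟨k, congrArg Subtype.val hk⟩
        have h3 : Nontrivial (Subgroup.center (PSU 6 K 2)) := h2.center_nontrivial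
        rw [BabyU.ChartAsm.center_eq_bot (hF4 F)] at h3
        exact not_subsingleton (⊥ : Subgroup (PSU 6 K 2)) inferInstance
    intro x' hx
    have h1 : ψ x' ∈ N := ⟨x', hx, rfl⟩
    rwa [hNb, Subgroup.mem_bot] at h1
  refine ⟨ψ, hsurj, fun x' => ⟨hker1 x', hker2 x'⟩, fun h => ?_⟩
  rcases C.root ⟨a0 F, h⟩ (xe_T F 60 (by decide +kernel)) with h1 | h1
  · exact absurd (hker1 _ h1) (a_R F)
  · exact h1

theorem commutator_top : _root_.commutator (Subgroup.centralizer ({r0 F} : Set ↥(twistedE6 K 2))) = ⊤ := by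
  apply Subgroup.map_injective (Subgroup.centralizer ({r0 F} : Set ↥(twistedE6 K 2))).subtype_injective
  rw [_root_.commutator_def, Subgroup.map_commutator, ← MonoidHom.range_eq_map, Subgroup.range_subtype, SheetA.perf F]

theorem hperf (f : Subgroup.centralizer ({r0 F} : Set ↥(twistedE6 K 2)) →* ℤˣ) (u) : f u = 1 := by
  have h1 : _root_.commutator (Subgroup.centralizer ({r0 F} : Set ↥(twistedE6 K 2))) ≤ f.ker :=
    Abelianization.commutator_subset_ker f
  rw [commutator_top F] at h1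
  exact h1 (Subgroup.mem_top u)

theorem c0_fix (d : ↥(twistedE6 K 2)) (hd : d ∈ SE K) : d * c0 F * d⁻¹ = c0 F ∨ d * c0 F * d⁻¹ = c0 F * r0 F := by
  rw [c0_comm_r0 F]
  exact c_fix F d hd

theorem c0_uni (x' : ↥(twistedE6 K 2)) (hx : x' ∈ RE K)
    (h : ∀ d ∈ SE K, d * x' * d⁻¹ = x' ∨ d * x' * d⁻¹ = x' * r0 F) :
    x' = 1 ∨ x' = r0 F ∨ x' = c0 F ∨ x' = c0 F * r0 F := by
  rw [c0_comm_r0 F]
  exact FlagL.c_uni F x' hx (fun d hd => by rw [← RE_comm_r0 F hx]; exact h d hd)

theorem c0_ne : c0 F ≠ 1 := fun h => x_ne_one (K := K) (r := 70) (by norm_num) (congrArg Subtype.val h)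

theorem c0_ne' : c0 F ≠ r0 F := fun h =>
  x_ne (K := K) (r := 70) (s := 71) (by norm_num) (by norm_num) (by norm_num) (congrArg Subtype.val h)

/-- **`|Out(²E₆(2))|` divides six.** -/
theorem index_out : (MulAut.conj : ↥(twistedE6 K 2) →* MulAut ↥(twistedE6 K 2)).range.index ∣ 6 := by
  have := finite_E (K := K)
  obtain ⟨ψ, hsurj, hker, -⟩ := exists_chart F
  have hr : r0 F ∈ rootClass K := xe_T F 71 (by decide +kernel)
  have h1 := SheetB.index_dvd (large F) (irr F) (hperf F) (aut_triv F) (c_R F) (c0_ne F) (c0_ne' F)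
    (D := (SE K : Set ↥(twistedE6 K 2))) (fun d hd => S_cent F d hd) (c0_uni F) (c0_fix F)
    (fun α => by
      have h2 := (ExtTwisted.auto K K F.card F.card α (r0 F)).1 hr
      obtain ⟨k, hk⟩ := exists_conj F h2
      exact ⟨k, hk.symm⟩)
    hsurj hker
    (fun β x' hx => (hker _).2 (RE_char F β x' ((hker _).1 hx)))
  rw [SheetPSU.index_PSU (hF4 F)] at h1
  exact h1

omit F [Fintype K] in
/-- A group with outer automorphism group of order dividing six has the Schreier property. -/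
theorem sch_of_index {G : Type*} [Group G] [Finite G] (h : (MulAut.conj : G →* MulAut G).range.index ∣ 6) :
    Schreier.Basic.Sch G := by
  intro C hC
  have hn := Schreier.Basic.conj_range_normal G
  have h1 : Group.IsSolvable (MulAut G ⧸ (MulAut.conj : G →* MulAut G).range) :=
    LieClassical.Order72.isSolvable_of_card_dvd (h.trans (by norm_num))
  intro c hc
  have h2 := Schreier.Basic.apply_eq_one_of_perfect (QuotientGroup.mk' (MulAut.conj : G →* MulAut G).range) hC hc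
  exact (QuotientGroup.eq_one_iff _).1 h2

/-- The outer automorphism group of `P` has order dividing six, and all its automorphisms map `a0` to a conjugate. -/
theorem conj_a0 {φ' : MulAut (Subgroup.centralizer ({r0 F} : Set ↥(twistedE6 K 2)))}
    (ha : a0 F ∈ Subgroup.centralizer ({r0 F} : Set ↥(twistedE6 K 2))) (h1 : φ' ⟨a0 F, ha⟩ = ⟨a0 F, ha⟩)
    (h2 : φ' * φ' = 1) (h3 : ∀ p, φ' ≠ MulAut.conj p)
    (β : MulAut (Subgroup.centralizer ({r0 F} : Set ↥(twistedE6 K 2)))) :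
    ∃ p, β ⟨a0 F, ha⟩ = p * ⟨a0 F, ha⟩ * p⁻¹ := by
  have := finite_E (K := K)
  obtain ⟨ψ, hsurj, hker, hTT⟩ := exists_chart F
  have hch : ∀ (β : MulAut (Subgroup.centralizer ({r0 F} : Set ↥(twistedE6 K 2)))) x', ψ x' = 1 → ψ (β x') = 1 :=
    fun β x' hx => (hker _).2 (RE_char F β x' ((hker _).1 hx))
  obtain ⟨Θ, hΘ⟩ := SheetB.exists_theta ψ hsurj hch
  have hzc : ∀ x' : Subgroup.centralizer ({r0 F} : Set ↥(twistedE6 K 2)),
      x' * ⟨r0 F, Subgroup.mem_centralizer_singleton_iff.2 rfl⟩ =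
        ⟨r0 F, Subgroup.mem_centralizer_singleton_iff.2 rfl⟩ * x' := fun x' =>
    Subtype.ext (Subgroup.mem_centralizer_singleton_iff.1 x'.2)
  have hker' : ∀ x', ψ x' = 1 ↔ x' ∈ (RE K).subgroupOf (Subgroup.centralizer ({r0 F} : Set ↥(twistedE6 K 2))) := hker
  have hc : c0 F ∈ Subgroup.centralizer ({r0 F} : Set ↥(twistedE6 K 2)) :=
    Subgroup.mem_centralizer_singleton_iff.2 (c0_comm_r0 F)
  have hI : (MulAut.conj : Subgroup.centralizer ({r0 F} : Set ↥(twistedE6 K 2)) →* MulAut _).range.index ∣ 6 := by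
    have hn' := SheetB.conj_normal (PSU 6 K 2)
    rw [← SheetPSU.index_PSU (hF4 F), ← SheetB.comap_inner (large_sub (large F)) (irr_sub (large F) (irr F)) hzc (hperf F)
      (v := ⟨c0 F, hc⟩) (c_R F) (fun h => c0_ne F (congrArg Subtype.val h)) (fun h => c0_ne' F (congrArg Subtype.val h))
      (D := {d | (d : ↥(twistedE6 K 2)) ∈ SE K})
      (fun x' hx h => by
        have h4 := c0_uni F x' hx (fun d hd => by
          rcases h ⟨d, Subgroup.mem_centralizer_singleton_iff.2 (S_cent F d hd)⟩ hd with h5 | h5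
          · exact Or.inl (congrArg Subtype.val h5)
          · exact Or.inr (congrArg Subtype.val h5))
        rcases h4 with h5 | h5 | h5 | h5
        · exact Or.inl (Subtype.ext h5)
        · exact Or.inr (Or.inl (Subtype.ext h5))
        · exact Or.inr (Or.inr (Or.inl (Subtype.ext h5)))
        · exact Or.inr (Or.inr (Or.inr (Subtype.ext h5))))
      (fun d hd => by
        rcases c0_fix F d hd with h5 | h5
        · exact Or.inl (Subtype.ext h5)
        · exact Or.inr (Subtype.ext h5))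
      hsurj hker' hΘ]
    exact SheetB.index_comap_dvd _ _
  refine SheetB.conj_all (large_sub (large F)) hzc hker' hsurj hΘ hI (a := ⟨a0 F, ha⟩)
    (fun γ => SheetPSU.exists_conj_TT (hF4 F) γ (hTT ha)) ?_ h1 h2 h3 β
  intro x' he
  have h4 : (x' : ↥(twistedE6 K 2)) * a0 F * (x' : ↥(twistedE6 K 2))⁻¹ = a0 F * r0 F := congrArg Subtype.val he
  apply FlagI.ab_not F
  have h5 := conj_T (xe_T F 60 (by decide +kernel)) (x' : ↥(twistedE6 K 2))
  rw [← h4]
  exact h5

/-- the involutions `k` for the `y`-trick -/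
theorem exists_k : ∃ k : ↥(twistedE6 K 2), k * r0 F * k⁻¹ = a0 F ∧
    ∃ y : ↥(twistedE6 K 2), y * r0 F = r0 F * y ∧ k⁻¹ * r0 F * k = y * a0 F * y⁻¹ := by
  obtain ⟨k, hk⟩ := exists_conj F (xe_T F 60 (by decide +kernel))
  refine ⟨k, hk, ?_⟩
  have hT : k⁻¹ * r0 F * k ∈ rootClass K := by
    have := conj_T (xe_T F 71 (by decide +kernel)) k⁻¹
    rwa [inv_inv] at this
  have hab : a0 F * r0 F = r0 F * a0 F := ab F
  apply pair60 F hT
  · calc k⁻¹ * r0 F * k * r0 F = k⁻¹ * (r0 F * (k * r0 F * k⁻¹)) * k := by group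
      _ = k⁻¹ * (r0 F * a0 F) * k := by rw [hk]
      _ = k⁻¹ * (k * r0 F * k⁻¹ * r0 F) * k := by rw [← hab, hk]
      _ = r0 F * (k⁻¹ * r0 F * k) := by group
  · intro h
    apply a_ne F
    calc a0 F = k * r0 F * k⁻¹ := hk.symm
      _ = k * (k⁻¹ * r0 F * k) * k⁻¹ := by rw [h]
      _ = r0 F := by group
  · intro h
    apply FlagI.ab_not F
    have h1 := conj_T h k
    have e : k * (k⁻¹ * r0 F * k * r0 F) * k⁻¹ = a0 F * r0 F := by
      calc k * (k⁻¹ * r0 F * k * r0 F) * k⁻¹ = r0 F * (k * r0 F * k⁻¹) := by group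
        _ = a0 F * r0 F := by rw [hk, hab]
    rwa [e] at h1

end Four

end Cfsg.Agent.TwoESix.SheetD

end
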